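import Cfsg.Agent.Helper57.BH.Defs
import Cfsg.Agent.Helper50.BHW1
import Cfsg.Agent.Helper80.BHW2
import Cfsg.Agent.Helper50.BHW3
import Cfsg.Agent.Helper48.BHAC

/-!
# S4503: the pieces (B) and (Q1) (own versions)
-/

set_option autoImplicit false

namespace Cfsg.Agent.Helper57.BH

open Cfsg Cfsg.Agent.Helper16 Cfsg.Agent.Helper16.DefOne Cfsg.Agent.Helper82.DefOne
  Cfsg.Agent.Helper77.DefOne
open scoped ComplexConjugate

universe u

variable {G : Type u} [Group G] [Fintype G] {p : ℕ} [Fact p.Prime] (P : Sylow p G)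

/-- (Q1) no `P`-fixed points -/
theorem pSum_mulConj_eq_zero_aux (hP : Nat.card P = p) (ψ ψ₂ : IrrCharacter G)
    (φ₀ φ₂ : IrrCharacter (cen P)) (h : IsOrbitSum P ψ φ₀) (h' : IsOrbitSum P ψ₂ φ₂)
    (hns : ∀ φ ∈ MulAction.orbit (nor P) φ₀, ∀ φ' ∈ MulAction.orbit (nor P) φ₂,
      ¬ SameP P φ φ') :
    pSum P (mulConj (ψ : G → ℂ) (ψ₂ : G → ℂ)) = 0 := by
  classical
  have hle := le_cen P hP
  haveI : Finite (IrrCharacter (cen P)) := Cfsg.Agent.Helper79.irr_finite' (G := cen P)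
  have hfin1 : (MulAction.orbit (nor P) φ₀).Finite := Set.toFinite _
  have hfin2 : (MulAction.orbit (nor P) φ₂).Finite := Set.toFinite _
  -- rewrite the sum over `P` as a sum over `{x : cen P | x ∈ P}`
  have hbij : pSum P (mulConj (ψ : G → ℂ) (ψ₂ : G → ℂ)) =
      ∑ᶠ x ∈ {x : cen P | (x : G) ∈ (P : Subgroup G)},
        mulConj (ψ : G → ℂ) (ψ₂ : G → ℂ) (x : G) := by
    unfold pSum
    symm
    refine finsum_mem_eq_of_bijOn (fun x : cen P => (x : G)) ?_ (fun _ _ => rfl)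
    refine ⟨fun x hx => hx, fun x _ y _ hxy => Subtype.ext hxy, fun g hg => ?_⟩
    exact ⟨⟨g, hle hg⟩, hg, rfl⟩
  rw [hbij]
  have hS : ({x : cen P | (x : G) ∈ (P : Subgroup G)}).Finite := Set.toFinite _
  have key : ∀ x : cen P, mulConj (ψ : G → ℂ) (ψ₂ : G → ℂ) (x : G) =
      ∑ φ ∈ hfin1.toFinset, ∑ φ' ∈ hfin2.toFinset,
        (φ : cen P → ℂ) x * conj ((φ' : cen P → ℂ) x) := by
    intro x
    unfold mulConj
    rw [h x, h' x, finsum_mem_eq_finite_toFinset_sum _ hfin1,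
      finsum_mem_eq_finite_toFinset_sum _ hfin2, map_sum, Finset.sum_mul_sum]
  simp_rw [key]
  rw [finsum_mem_eq_finite_toFinset_sum _ hS, Finset.sum_comm]
  refine Finset.sum_eq_zero fun φ hφ => ?_
  rw [Finset.sum_comm]
  refine Finset.sum_eq_zero fun φ' hφ' => ?_
  have := Cfsg.Agent.Helper50.BH.finsum_mulConj_of_not_sameP P hP
    (hns φ (hfin1.mem_toFinset.1 hφ) φ' (hfin2.mem_toFinset.1 hφ'))
  rw [finsum_mem_eq_finite_toFinset_sum _ hS] at this
  exact this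

/-- (B) a non-canonical `φ₂` over `θ` whose orbit has other central characters on `P` -/
theorem exists_second_aux (hP : Nat.card P = p) (θ : IrrCharacter (cen P)) (hθ : IsCanon P θ)
    (φ₀ : IrrCharacter (cen P)) (h1 : can P φ₀ = θ) (h2 : ¬ IsCanon P φ₀)
    (hf : (cen P).relIndex (nor P) < p - 1) :
    ∃ φ₂ : IrrCharacter (cen P), can P φ₂ = θ ∧ ¬ IsCanon P φ₂ ∧
      ∀ φ ∈ MulAction.orbit (nor P) φ₀, ∀ φ' ∈ MulAction.orbit (nor P) φ₂, ¬ SameP P φ φ' := by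
  classical
  haveI : Finite (IrrCharacter (cen P)) := Cfsg.Agent.Helper79.irr_finite' (G := cen P)
  have hcardO := Cfsg.Agent.Helper48.BH.card_orbit_of_not_isCanon P hP φ₀ h2
  have hcardZ := card_ZType P hP θ hθ
  -- a good `z`
  have hex : ∃ z : ZType P θ, ∀ φ ∈ MulAction.orbit (nor P) φ₀, ¬ SameP P φ z.1 := by
    by_contra hcon
    push_neg at hcon
    choose g hg hgs using hcon
    let g' : ZType P θ → MulAction.orbit (nor P) φ₀ := fun z => ⟨g z, hg z⟩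
    have hinj : Function.Injective g' := by
      intro z z' hzz
      have hgz : g z = g z' := congrArg Subtype.val hzz
      have hs : SameP P z.1 z'.1 :=
        Cfsg.Agent.Helper50.BH.sameP_trans P
          (Cfsg.Agent.Helper50.BH.sameP_symm P (hgs z)) (hgz ▸ hgs z')
      have : z.1 = z'.1 :=
        Cfsg.Agent.Helper80.BH.eq_of_can_eq_of_sameP P hP (z.2.1.trans z'.2.1.symm) hs
      exact Subtype.ext this
    have hle := Nat.card_le_card_of_injective g' hinj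
    rw [hcardO, hcardZ] at hle
    omega
  obtain ⟨z, hz⟩ := hex
  refine ⟨z.1, z.2.1, not_isCanon_of_mem P hP θ z, ?_⟩
  rintro φ hφ φ' ⟨n, rfl⟩ hs
  have hs' := Cfsg.Agent.Helper50.BH.sameP_smul P hP n⁻¹ hs
  have e : n⁻¹ • (fun m : nor P => m • z.1) n = z.1 := inv_smul_smul n z.1
  rw [e] at hs'
  refine hz (n⁻¹ • φ) ?_ hs'
  obtain ⟨m, rfl⟩ := hφ
  exact ⟨n⁻¹ * m, by simp [mul_smul]⟩

end Cfsg.Agent.Helper57.BH
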