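import Cfsg.Agent.Helper57.BH.Defs
import Cfsg.Agent.Helper80.BHW2
import Cfsg.Agent.Helper74.DegP3
import Cfsg.Agent.Helper80.Linear

/-!
# S4503, piece (Q2): `(ψ · conj ψ₂)|_C` has at most `f²` linear constituents over the trivial
character
-/

set_option autoImplicit false

namespace Cfsg.Agent.Helper57.BH

open Cfsg Cfsg.Agent.Helper16 Cfsg.Agent.Helper16.DefOne Cfsg.Agent.Helper82.DefOne
  Cfsg.Agent.Helper77.DefOne
open scoped ComplexConjugate

universe u

variable {G : Type u} [Group G] [Fintype G] {p : ℕ} [Fact p.Prime] (P : Sylow p G)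

/-- the degree of a member of `Z1` is one -/
theorem apply_one_of_mem_Z1 (hP : Nat.card P = p) (φ : IrrCharacter (cen P)) (hφ : φ ∈ Z1 P) :
    (φ : cen P → ℂ) 1 = 1 := by
  have h1 : ¬ p ∣ orderOf (1 : cen P) := by
    rw [orderOf_one]
    exact (Fact.out : p.Prime).not_dvd_one
  rw [can_apply_regular P hP φ 1 h1, hφ.1]
  rfl

open Classical in
/-- the inner product of `φ · conj φ'` with a linear `φ̃` -/
theorem classInner_mulConj_linear [Fintype (cen P)] (hP : Nat.card P = p)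
    (φt : IrrCharacter (cen P)) (hφt : φt ∈ Z1 P) (φ φ' : IrrCharacter (cen P)) :
    classInner (fun c : cen P => (φ : cen P → ℂ) c * conj ((φ' : cen P → ℂ) c))
      (φt : cen P → ℂ) =
      if (∀ c : cen P, (φ : cen P → ℂ) c = (φt : cen P → ℂ) c * (φ' : cen P → ℂ) c)
        then 1 else 0 := by
  obtain ⟨μ, hμ⟩ := Helper80.IsCharacter.exists_monoidHom (Helper74.irr_isCharacter φt)
    (apply_one_of_mem_Z1 P hP φt hφt)
  have h1 : classInner (fun c : cen P => (φ : cen P → ℂ) c * conj ((φ' : cen P → ℂ) c))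
      (φt : cen P → ℂ) = classInner (φ : cen P → ℂ) (Helper74.twist μ φ' : cen P → ℂ) := by
    rw [Helper74.classInner_def, Helper74.classInner_def]
    congr 1
    refine Finset.sum_congr rfl (fun c _ => ?_)
    rw [Helper74.twist_apply, ← hμ c, map_mul]
    ring
  rw [h1, Helper74.irr_orthonormal]
  have hiff : (φ = Helper74.twist μ φ') ↔
      (∀ c : cen P, (φ : cen P → ℂ) c = (φt : cen P → ℂ) c * (φ' : cen P → ℂ) c) := by
    constructor
    · intro h c
      rw [hμ c]
      conv_lhs => rw [h]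
      rfl
    · intro h
      apply Subtype.ext
      funext c
      rw [h c, hμ c]
      rfl
  by_cases hc : φ = Helper74.twist μ φ'
  · rw [if_pos hc, if_pos (hiff.mp hc)]
  · rw [if_neg hc, if_neg (fun h => hc (hiff.mpr h))]

/-- an irreducible character of `C` does not vanish on `P` -/
theorem apply_ne_zero_of_mem (hP : Nat.card P = p) (φ : IrrCharacter (cen P)) (x : cen P)
    (hx : (x : G) ∈ (P : Subgroup G)) : (φ : cen P → ℂ) x ≠ 0 := by
  haveI : Fintype (cen P) := Fintype.ofFinite _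
  have hxc : x ∈ Helper74.charCenter φ := by
    apply Helper74.center_le_charCenter φ
    apply subgroupOf_cen_le_center P hP
    rw [Subgroup.mem_subgroupOf]
    exact hx
  rw [Helper74.mem_charCenter_iff] at hxc
  intro h0
  rw [h0, norm_zero] at hxc
  have : charDegree (φ : cen P → ℂ) ≠ 0 := charDegree_ne_zero' φ
  apply this
  exact_mod_cast hxc.symm

/-- at most one member of `Z1` carries `φ'` to `φ` -/
theorem eq_of_mul_eq (hP : Nat.card P = p) (φt φt' : IrrCharacter (cen P)) (h1 : φt ∈ Z1 P)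
    (h2 : φt' ∈ Z1 P) (φ φ' : IrrCharacter (cen P))
    (e1 : ∀ c : cen P, (φ : cen P → ℂ) c = (φt : cen P → ℂ) c * (φ' : cen P → ℂ) c)
    (e2 : ∀ c : cen P, (φ : cen P → ℂ) c = (φt' : cen P → ℂ) c * (φ' : cen P → ℂ) c) :
    φt = φt' := by
  apply Cfsg.Agent.Helper80.BH.eq_of_can_eq_of_sameP P hP (h1.1.trans h2.1.symm)
  intro x hx
  rw [apply_one_of_mem_Z1 P hP φt h1, apply_one_of_mem_Z1 P hP φt' h2, mul_one, mul_one]
  have h3 := (e1 x).symm.trans (e2 x)
  exact mul_right_cancel₀ (apply_ne_zero_of_mem P hP φ' x hx) h3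


/-- an orbit has at most `f` elements -/
theorem card_orbit_le (hP : Nat.card P = p) (φ₀ : IrrCharacter (cen P)) :
    Nat.card (MulAction.orbit (nor P) φ₀) ≤ (cen P).relIndex (nor P) := by
  have h := card_orbit_mul_inertia P hP φ₀
  have hpos := inertia_pos P hP φ₀
  calc Nat.card (MulAction.orbit (nor P) φ₀)
      ≤ Nat.card (MulAction.orbit (nor P) φ₀) * inertia P φ₀ := Nat.le_mul_of_pos_right _ hpos
    _ = (cen P).relIndex (nor P) := h

open Classical in
/-- (Q2) few linear constituents over the trivial character -/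
theorem z1Sum_mulConj_le_aux (hP : Nat.card P = p) (ψ ψ₂ : IrrCharacter G)
    (φ₀ φ₂ : IrrCharacter (cen P)) (h : IsOrbitSum P ψ φ₀) (h' : IsOrbitSum P ψ₂ φ₂) :
    z1Sum P (mulConj (ψ : G → ℂ) (ψ₂ : G → ℂ)) ≤ (((cen P).relIndex (nor P) : ℕ) : ℝ) ^ 2 := by
  letI : Fintype (cen P) := Fintype.ofFinite _
  haveI : Finite (IrrCharacter (cen P)) := Helper79.irr_finite'
  have hOfin : (MulAction.orbit (nor P) φ₀).Finite := Set.toFinite _
  have hO2fin : (MulAction.orbit (nor P) φ₂).Finite := Set.toFinite _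
  have hZfin : (Z1 P).Finite := Set.toFinite _
  set Of := hOfin.toFinset with hOf
  set O2f := hO2fin.toFinset with hO2f
  -- the expansion of `cInner`
  have hexp : ∀ φt ∈ Z1 P, cInner P (mulConj (ψ : G → ℂ) (ψ₂ : G → ℂ)) φt =
      ∑ φ ∈ Of, ∑ φ' ∈ O2f,
        (if (∀ c : cen P, (φ : cen P → ℂ) c = (φt : cen P → ℂ) c * (φ' : cen P → ℂ) c)
          then (1 : ℂ) else 0) := by
    intro φt hφt
    have hfun : (fun c : cen P => mulConj (ψ : G → ℂ) (ψ₂ : G → ℂ) (c : G)) =
        ∑ φ ∈ Of, ∑ φ' ∈ O2f,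
          (fun c : cen P => (φ : cen P → ℂ) c * conj ((φ' : cen P → ℂ) c)) := by
      funext c
      show (ψ : G → ℂ) (c : G) * conj ((ψ₂ : G → ℂ) (c : G)) = _
      rw [h c, h' c, finsum_mem_eq_finite_toFinset_sum _ hOfin,
        finsum_mem_eq_finite_toFinset_sum _ hO2fin, map_sum, Finset.sum_mul_sum]
      simp only [Finset.sum_apply, hOf, hO2f]
    show classInner (fun c : cen P => mulConj (ψ : G → ℂ) (ψ₂ : G → ℂ) (c : G))
      (φt : cen P → ℂ) = _
    rw [hfun, Helper74.classInner_sum_left]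
    refine Finset.sum_congr rfl (fun φ _ => ?_)
    rw [Helper74.classInner_sum_left]
    refine Finset.sum_congr rfl (fun φ' _ => ?_)
    exact classInner_mulConj_linear P hP φt hφt φ φ'
  -- the sum over `Z1`
  unfold z1Sum
  rw [finsum_mem_eq_finite_toFinset_sum _ hZfin]
  have hstep : ∀ φt ∈ hZfin.toFinset,
      (cInner P (mulConj (ψ : G → ℂ) (ψ₂ : G → ℂ)) φt).re =
      ∑ φ ∈ Of, ∑ φ' ∈ O2f,
        (if (∀ c : cen P, (φ : cen P → ℂ) c = (φt : cen P → ℂ) c * (φ' : cen P → ℂ) c)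
          then (1 : ℝ) else 0) := by
    intro φt hφt
    rw [hexp φt (hZfin.mem_toFinset.mp hφt), Complex.re_sum]
    refine Finset.sum_congr rfl (fun φ _ => ?_)
    rw [Complex.re_sum]
    refine Finset.sum_congr rfl (fun φ' _ => ?_)
    split_ifs <;> simp
  rw [Finset.sum_congr rfl hstep, Finset.sum_comm]
  have hinner : ∀ φ ∈ Of, (∑ φt ∈ hZfin.toFinset, ∑ φ' ∈ O2f,
      (if (∀ c : cen P, (φ : cen P → ℂ) c = (φt : cen P → ℂ) c * (φ' : cen P → ℂ) c)
        then (1 : ℝ) else 0)) ≤ (O2f.card : ℝ) := by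
    intro φ _
    rw [Finset.sum_comm]
    have : ∀ φ' ∈ O2f, (∑ φt ∈ hZfin.toFinset,
        (if (∀ c : cen P, (φ : cen P → ℂ) c = (φt : cen P → ℂ) c * (φ' : cen P → ℂ) c)
          then (1 : ℝ) else 0)) ≤ 1 := by
      intro φ' _
      rw [Finset.sum_ite, Finset.sum_const_zero, add_zero, Finset.sum_const, nsmul_eq_mul,
        mul_one]
      have hcard : (hZfin.toFinset.filter (fun φt : IrrCharacter (cen P) =>
          ∀ c : cen P, (φ : cen P → ℂ) c = (φt : cen P → ℂ) c * (φ' : cen P → ℂ) c)).card ≤ 1 := by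
        rw [Finset.card_le_one]
        intro a ha b hb
        rw [Finset.mem_filter] at ha hb
        exact eq_of_mul_eq P hP a b (hZfin.mem_toFinset.mp ha.1) (hZfin.mem_toFinset.mp hb.1)
          φ φ' ha.2 hb.2
      exact_mod_cast hcard
    calc (∑ φ' ∈ O2f, ∑ φt ∈ hZfin.toFinset,
        (if (∀ c : cen P, (φ : cen P → ℂ) c = (φt : cen P → ℂ) c * (φ' : cen P → ℂ) c)
          then (1 : ℝ) else 0)) ≤ ∑ _φ' ∈ O2f, (1 : ℝ) := Finset.sum_le_sum this
      _ = (O2f.card : ℝ) := by rw [Finset.sum_const, nsmul_eq_mul, mul_one]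
  have hOcard : Of.card ≤ (cen P).relIndex (nor P) := by
    have := card_orbit_le P hP φ₀
    rwa [Nat.card_coe_set_eq, Set.ncard_eq_toFinset_card _ hOfin] at this
  have hO2card : O2f.card ≤ (cen P).relIndex (nor P) := by
    have := card_orbit_le P hP φ₂
    rwa [Nat.card_coe_set_eq, Set.ncard_eq_toFinset_card _ hO2fin] at this
  calc (∑ φ ∈ Of, ∑ φt ∈ hZfin.toFinset, ∑ φ' ∈ O2f,
        (if (∀ c : cen P, (φ : cen P → ℂ) c = (φt : cen P → ℂ) c * (φ' : cen P → ℂ) c)
          then (1 : ℝ) else 0)) ≤ ∑ _φ ∈ Of, (O2f.card : ℝ) := Finset.sum_le_sum hinner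
    _ = (Of.card : ℝ) * (O2f.card : ℝ) := by rw [Finset.sum_const, nsmul_eq_mul]
    _ ≤ (((cen P).relIndex (nor P) : ℕ) : ℝ) * (((cen P).relIndex (nor P) : ℕ) : ℝ) := by
        apply mul_le_mul
        · exact_mod_cast hOcard
        · exact_mod_cast hO2card
        · positivity
        · positivity
    _ = (((cen P).relIndex (nor P) : ℕ) : ℝ) ^ 2 := by ring

end Cfsg.Agent.Helper57.BH
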