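import Cfsg.Agent.Helper57.BH.Defs
import Cfsg.Agent.Helper14.BHAM
import Cfsg.Agent.Helper14.BHC5
import Cfsg.Agent.Helper24.BHC6
import Cfsg.Agent.Helper24.BHC7
import Cfsg.Agent.Helper41.BHAO
import Cfsg.Agent.Helper48.BHAC
import Cfsg.Agent.Helper48.BHAR
import Cfsg.Agent.Helper50.BHC3
import Cfsg.Agent.Helper50.BHW1
import Cfsg.Agent.Helper50.BHW3
import Cfsg.Agent.Helper57.BH.BQ
import Cfsg.Agent.Helper57.BH.Q2
import Cfsg.Agent.Helper63.BHAD
import Cfsg.Agent.Helper80.BHAX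
import Cfsg.Agent.Helper80.BHW2
import Cfsg.Agent.Helper81.BHC1
import Cfsg.Agent.Helper81.BHC2
import Cfsg.Agent.Helper81.BHC4

/-!
# S4503: the pieces, collected under one namespace (proved in the files of the piece takers)
-/

set_option autoImplicit false

namespace Cfsg.Agent.Helper57.BH

open Cfsg Cfsg.Agent.Helper16 Cfsg.Agent.Helper16.DefOne Cfsg.Agent.Helper82.DefOne
  Cfsg.Agent.Helper77.DefOne
open scoped ComplexConjugate

universe u

variable {G : Type u} [Group G] [Fintype G] {p : ℕ} [Fact p.Prime] (P : Sylow p G)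

/-! ## (W) central characters on `P` -/

theorem sameP_refl (φ : IrrCharacter (cen P)) : SameP P φ φ := by
  apply Cfsg.Agent.Helper50.BH.sameP_refl (p := p) P <;> assumption

theorem sameP_symm {φ φ' : IrrCharacter (cen P)} (h : SameP P φ φ') : SameP P φ' φ := by
  apply Cfsg.Agent.Helper50.BH.sameP_symm (p := p) P <;> assumption

theorem sameP_trans {φ φ' φ'' : IrrCharacter (cen P)} (h : SameP P φ φ')
    (h' : SameP P φ' φ'') : SameP P φ φ'' := by
  apply Cfsg.Agent.Helper50.BH.sameP_trans (p := p) P <;> assumption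

theorem sameP_smul (hP : Nat.card P = p) (n : nor P) {φ φ' : IrrCharacter (cen P)}
    (h : SameP P φ φ') : SameP P (n • φ) (n • φ') := by
  apply Cfsg.Agent.Helper50.BH.sameP_smul (p := p) P <;> assumption

theorem sameP_oneIrr_iff (φ : IrrCharacter (cen P)) : SameP P φ (oneIrr P) ↔ IsCanon P φ := by
  apply Cfsg.Agent.Helper50.BH.sameP_oneIrr_iff (p := p) P <;> assumption

/-- (W-b) a character of `C` is determined by its canonical character and its central character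
on `P` -/
theorem eq_of_can_eq_of_sameP (hP : Nat.card P = p) {φ φ' : IrrCharacter (cen P)}
    (hcan : can P φ = can P φ') (h : SameP P φ φ') : φ = φ' := by
  apply Cfsg.Agent.Helper80.BH.eq_of_can_eq_of_sameP (p := p) P <;> assumption

/-- (W-c) orthogonality on `P` -/
theorem finsum_mulConj_of_not_sameP (hP : Nat.card P = p) {φ φ' : IrrCharacter (cen P)}
    (h : ¬ SameP P φ φ') :
    ∑ᶠ x ∈ {x : cen P | (x : G) ∈ (P : Subgroup G)},
      (φ : cen P → ℂ) x * conj ((φ' : cen P → ℂ) x) = 0 := by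
  apply Cfsg.Agent.Helper50.BH.finsum_mulConj_of_not_sameP (p := p) P <;> assumption

/-! ## (A) the structure of a character of small degree -/

/-- (A-X) a small character with `P` not in its kernel is not non-exceptional -/
theorem not_mem_X_of_small (hP : Nat.card P = p) (θ : IrrCharacter (cen P)) (hθ : IsCanon P θ)
    {X Y : Set (IrrCharacter G)} {ε : IrrCharacter G → ℤ} {δ : ℤ} (D : IsRData P θ X Y ε δ)
    (ψ : IrrCharacter G) (hsmall : 2 * charDegree (ψ : G → ℂ) + 1 < p)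
    (hker : ∃ x : G, x ∈ (P : Subgroup G) ∧ (ψ : G → ℂ) x ≠ (ψ : G → ℂ) 1) : ψ ∉ X := by
  apply Cfsg.Agent.Helper80.BH.not_mem_X_of_small (p := p) P <;> assumption

open Classical in
/-- (A-rows) all the rows of an exceptional character -/
theorem rowZ_eq_of_mem_Y (hP : Nat.card P = p) [((P : Subgroup G).subgroupOf (nor P)).Normal]
    (hmod : ModCount p P) (θ : IrrCharacter (cen P)) (hθ : IsCanon P θ)
    {X Y : Set (IrrCharacter G)} {ε : IrrCharacter G → ℤ} {δ : ℤ} (D : IsRData P θ X Y ε δ)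
    (ψ : IrrCharacter G) (hψ : ψ ∈ Y) (φ₀ : IrrCharacter (cen P)) (h1 : can P φ₀ = θ)
    (h2 : ¬ IsCanon P φ₀)
    (hrow : ∀ φ : IrrCharacter (cen P), can P φ = θ → ¬ IsCanon P φ →
      rowZ P ψ φ = if ∃ n : nor P, n • φ = φ₀ then δ else 0)
    (φ : IrrCharacter (cen P)) :
    rowZ P ψ φ = if φ ∈ MulAction.orbit (nor P) φ₀ then δ else 0 := by
  apply Cfsg.Agent.Helper48.BH.rowZ_eq_of_mem_Y (p := p) P <;> assumption

/-- (A-card) the orbit of a non-canonical character is regular -/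
theorem card_orbit_of_not_isCanon (hP : Nat.card P = p) (φ₀ : IrrCharacter (cen P))
    (h2 : ¬ IsCanon P φ₀) :
    Nat.card (MulAction.orbit (nor P) φ₀) = (cen P).relIndex (nor P) := by
  apply Cfsg.Agent.Helper48.BH.card_orbit_of_not_isCanon (p := p) P <;> assumption

/-- (A-deg) degrees along an orbit, and of the canonical character -/
theorem charDegree_of_mem_orbit (φ₀ φ : IrrCharacter (cen P))
    (h : φ ∈ MulAction.orbit (nor P) φ₀) :
    charDegree (φ : cen P → ℂ) = charDegree (φ₀ : cen P → ℂ) := by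
  apply Cfsg.Agent.Helper48.BH.charDegree_of_mem_orbit (p := p) P <;> assumption

theorem charDegree_can (hP : Nat.card P = p) (φ : IrrCharacter (cen P)) :
    charDegree (can P φ : cen P → ℂ) = charDegree (φ : cen P → ℂ) := by
  apply Cfsg.Agent.Helper48.BH.charDegree_can (p := p) P <;> assumption

/-- (A-mult) the restriction to `C` in terms of the multiplicities -/
theorem restrict_eq_finsum_mult (ψ : IrrCharacter G) (c : cen P) :
    (ψ : G → ℂ) (c : G) =
      ∑ᶠ φ : IrrCharacter (cen P), (mult P ψ φ : ℂ) * (φ : cen P → ℂ) c := by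
  apply Cfsg.Agent.Helper14.BH.restrict_eq_finsum_mult (p := p) P <;> assumption

theorem mult_nonneg (ψ : IrrCharacter G) (φ : IrrCharacter (cen P)) : 0 ≤ mult P ψ φ := by
  apply Cfsg.Agent.Helper14.BH.mult_nonneg (p := p) P <;> assumption

open Classical in
/-- (A-main) an exceptional character with `δ = 1` of degree `< p` restricts to the orbit sum -/
theorem orbitSum_of_mem_Y (hP : Nat.card P = p) [((P : Subgroup G).subgroupOf (nor P)).Normal]
    (hmod : ModCount p P) (θ : IrrCharacter (cen P)) (hθ : IsCanon P θ)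
    {X Y : Set (IrrCharacter G)} {ε : IrrCharacter G → ℤ} {δ : ℤ} (D : IsRData P θ X Y ε δ)
    (ψ : IrrCharacter G) (hψ : ψ ∈ Y) (φ₀ : IrrCharacter (cen P)) (h1 : can P φ₀ = θ)
    (h2 : ¬ IsCanon P φ₀)
    (hrow : ∀ φ : IrrCharacter (cen P),
      rowZ P ψ φ = if φ ∈ MulAction.orbit (nor P) φ₀ then δ else 0)
    (hδ : δ = 1) (hdeg : charDegree (ψ : G → ℂ) < p) :
    charDegree (ψ : G → ℂ) = (cen P).relIndex (nor P) * charDegree (θ : cen P → ℂ) ∧
      IsOrbitSum P ψ φ₀ := by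
  apply Cfsg.Agent.Helper41.BH.orbitSum_of_mem_Y (p := p) P <;> assumption

open Classical in
/-- (A-delta) a small exceptional character with `P` not in its kernel has `δ = 1` -/
theorem delta_eq_one (hP : Nat.card P = p) [((P : Subgroup G).subgroupOf (nor P)).Normal]
    (hmod : ModCount p P) (θ : IrrCharacter (cen P)) (hθ : IsCanon P θ)
    {X Y : Set (IrrCharacter G)} {ε : IrrCharacter G → ℤ} {δ : ℤ} (D : IsRData P θ X Y ε δ)
    (ψ : IrrCharacter G) (hψ : ψ ∈ Y) (φ₀ : IrrCharacter (cen P)) (h1 : can P φ₀ = θ)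
    (h2 : ¬ IsCanon P φ₀)
    (hrow : ∀ φ : IrrCharacter (cen P),
      rowZ P ψ φ = if φ ∈ MulAction.orbit (nor P) φ₀ then δ else 0)
    (hsmall : 2 * charDegree (ψ : G → ℂ) + 1 < p)
    (hker : ∃ x : G, x ∈ (P : Subgroup G) ∧ (ψ : G → ℂ) x ≠ (ψ : G → ℂ) 1) : δ = 1 := by
  apply Cfsg.Agent.Helper63.BH.delta_eq_one (p := p) P <;> assumption

/-! ## (B) the second exceptional character -/

/-- (B) a non-canonical `φ₂` over `θ` whose orbit has other central characters on `P` -/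
theorem exists_second (hP : Nat.card P = p) (θ : IrrCharacter (cen P)) (hθ : IsCanon P θ)
    (φ₀ : IrrCharacter (cen P)) (h1 : can P φ₀ = θ) (h2 : ¬ IsCanon P φ₀)
    (hf : (cen P).relIndex (nor P) < p - 1) :
    ∃ φ₂ : IrrCharacter (cen P), can P φ₂ = θ ∧ ¬ IsCanon P φ₂ ∧
      ∀ φ ∈ MulAction.orbit (nor P) φ₀, ∀ φ' ∈ MulAction.orbit (nor P) φ₂, ¬ SameP P φ φ' := by
  apply exists_second_aux (p := p) P <;> assumption

/-! ## (Q) the two facts on `ψ · conj ψ₂` -/

/-- (Q1) no `P`-fixed points -/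
theorem pSum_mulConj_eq_zero (hP : Nat.card P = p) (ψ ψ₂ : IrrCharacter G)
    (φ₀ φ₂ : IrrCharacter (cen P)) (h : IsOrbitSum P ψ φ₀) (h' : IsOrbitSum P ψ₂ φ₂)
    (hns : ∀ φ ∈ MulAction.orbit (nor P) φ₀, ∀ φ' ∈ MulAction.orbit (nor P) φ₂,
      ¬ SameP P φ φ') :
    pSum P (mulConj (ψ : G → ℂ) (ψ₂ : G → ℂ)) = 0 := by
  apply pSum_mulConj_eq_zero_aux (p := p) P <;> assumption

/-- (Q2) few linear constituents over the trivial character -/
theorem z1Sum_mulConj_le (hP : Nat.card P = p) (ψ ψ₂ : IrrCharacter G)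
    (φ₀ φ₂ : IrrCharacter (cen P)) (h : IsOrbitSum P ψ φ₀) (h' : IsOrbitSum P ψ₂ φ₂)
    (hdeg : charDegree (φ₀ : cen P → ℂ) = charDegree (φ₂ : cen P → ℂ)) :
    z1Sum P (mulConj (ψ : G → ℂ) (ψ₂ : G → ℂ)) ≤ (((cen P).relIndex (nor P) : ℕ) : ℝ) ^ 2 := by
  apply z1Sum_mulConj_le_aux (p := p) P <;> assumption

/-! ## (C) the principal block -/

/-- (C1) a non-exceptional character of the principal block is constant on `p`-singular
elements -/
theorem apply_singular_X0 (hP : Nat.card P = p) {X Y : Set (IrrCharacter G)}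
    {ε : IrrCharacter G → ℤ} {δ : ℤ} (D : IsRData P (oneIrr P) X Y ε δ)
    (χ : IrrCharacter G) (hχ : χ ∈ X) (g : G) (hg : p ∣ orderOf g) :
    (χ : G → ℂ) g = (ε χ : ℂ) := by
  apply Cfsg.Agent.Helper81.BH.apply_singular_X0 (p := p) P <;> assumption

/-- (C2) the exceptional characters of the principal block sum to `-δ` on `p`-singular
elements -/
theorem finsum_Y0_singular (hP : Nat.card P = p)
    [((P : Subgroup G).subgroupOf (nor P)).Normal] (hmod : ModCount p P)
    {X Y : Set (IrrCharacter G)} {ε : IrrCharacter G → ℤ} {δ : ℤ}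
    (D : IsRData P (oneIrr P) X Y ε δ) (g : G) (hg : p ∣ orderOf g) :
    ∑ᶠ ψ ∈ Y, (ψ : G → ℂ) g = -(δ : ℂ) := by
  apply Cfsg.Agent.Helper81.BH.finsum_Y0_singular (p := p) P <;> assumption

/-- (C3) inner products with a class function that is constant on `p`-singular elements -/
theorem classInner_mulConj_sub (ψ ψ₂ : IrrCharacter G) (hne : ψ ≠ ψ₂)
    (hreg : ∀ g : G, ¬ p ∣ orderOf g → (ψ₂ : G → ℂ) g = (ψ : G → ℂ) g)
    (F : G → ℂ) (c : ℂ) (hF : ∀ g : G, p ∣ orderOf g → F g = c) :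
    classInner (mulConj (ψ : G → ℂ) (ψ : G → ℂ)) F -
      classInner (mulConj (ψ : G → ℂ) (ψ₂ : G → ℂ)) F = conj c := by
  apply Cfsg.Agent.Helper50.BH.classInner_mulConj_sub (p := p) <;> assumption

/-- (C4) the `P`-sums -/
theorem pSum_X0 (hP : Nat.card P = p) {X Y : Set (IrrCharacter G)}
    {ε : IrrCharacter G → ℤ} {δ : ℤ} (D : IsRData P (oneIrr P) X Y ε δ)
    (χ : IrrCharacter G) (hχ : χ ∈ X) :
    pSum P (χ : G → ℂ) = (charDegree (χ : G → ℂ) : ℂ) + ((p : ℂ) - 1) * (ε χ : ℂ) := by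
  apply Cfsg.Agent.Helper81.BH.pSum_X0 (p := p) P <;> assumption

theorem pSum_Y0 (hP : Nat.card P = p)
    [((P : Subgroup G).subgroupOf (nor P)).Normal] (hmod : ModCount p P)
    {X Y : Set (IrrCharacter G)} {ε : IrrCharacter G → ℤ} {δ : ℤ}
    (D : IsRData P (oneIrr P) X Y ε δ) (ψ : IrrCharacter G) (hψ : ψ ∈ Y) :
    pSum P (ψ : G → ℂ) =
      (charDegree (ψ : G → ℂ) : ℂ) - (δ : ℂ) * ((cen P).relIndex (nor P) : ℂ) := by
  apply Cfsg.Agent.Helper81.BH.pSum_Y0 (p := p) P <;> assumption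

/-- (C5) a constituent of a character without `P`-fixed points has none -/
theorem pSum_eq_zero_of_constituent (hP : Nat.card P = p) (Ξ : G → ℂ) (hΞ : IsCharacter G Ξ)
    (h0 : pSum P Ξ = 0) (χ : IrrCharacter G) (hχ : classInner Ξ (χ : G → ℂ) ≠ 0) :
    pSum P (χ : G → ℂ) = 0 := by
  apply Cfsg.Agent.Helper14.BH.pSum_eq_zero_of_constituent (p := p) P <;> assumption

/-- (C6) `z1Sum` is superadditive over constituents -/
theorem z1Sum_ge_sum (Ξ : G → ℂ) (hΞ : IsCharacter G Ξ) (S : Finset (IrrCharacter G))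
    (hS : ∀ χ ∈ S, classInner Ξ (χ : G → ℂ) ≠ 0) :
    (∑ χ ∈ S, z1Sum P (χ : G → ℂ)) ≤ z1Sum P Ξ := by
  apply Cfsg.Agent.Helper24.BH.z1Sum_ge_sum (p := p) P <;> assumption

theorem z1Sum_X0 (hP : Nat.card P = p) {X Y : Set (IrrCharacter G)}
    {ε : IrrCharacter G → ℤ} {δ : ℤ} (D : IsRData P (oneIrr P) X Y ε δ)
    (χ : IrrCharacter G) (hχ : χ ∈ X) (hε : ε χ = -1) :
    (p : ℝ) - 1 ≤ z1Sum P (χ : G → ℂ) := by
  apply Cfsg.Agent.Helper24.BH.z1Sum_X0 (p := p) P <;> assumption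

theorem z1Sum_Y0 (hP : Nat.card P = p) {X Y : Set (IrrCharacter G)}
    {ε : IrrCharacter G → ℤ} {δ : ℤ} (D : IsRData P (oneIrr P) X Y ε δ)
    (ψ : IrrCharacter G) (hψ : ψ ∈ Y) (hδ : δ = 1) :
    (((cen P).relIndex (nor P) : ℕ) : ℝ) ≤ z1Sum P (ψ : G → ℂ) := by
  apply Cfsg.Agent.Helper24.BH.z1Sum_Y0 (p := p) P <;> assumption

/-- (C7) the trivial character is non-exceptional with sign `+1` -/
theorem oneIrrG_mem_X0 (hP : Nat.card P = p) {X Y : Set (IrrCharacter G)}
    {ε : IrrCharacter G → ℤ} {δ : ℤ} (D : IsRData P (oneIrr P) X Y ε δ)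
    (hf : (cen P).relIndex (nor P) < p - 1) :
    oneIrrG G ∈ X ∧ ε (oneIrrG G) = 1 := by
  apply Cfsg.Agent.Helper24.BH.oneIrrG_mem_X0 (p := p) P <;> assumption

end Cfsg.Agent.Helper57.BH
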