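import Cfsg.Agent.Helper57.BH.Main

/-!
# S4503: the reduction to the subgroup generated by the elements of order `p`
-/

set_option autoImplicit false

namespace Cfsg.Agent.Helper57.BH

open Cfsg Cfsg.Agent.Helper16 Cfsg.Agent.Helper16.DefOne Cfsg.Agent.Helper82.DefOne
  Cfsg.Agent.Helper77.DefOne
open scoped ComplexConjugate

universe u

/-- an element of the centre of an irreducible character kills commutators -/
theorem apply_commutator_of_mem_charCenter {K : Type u} [Group K] (ψ : IrrCharacter K) (x k : K)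
    (hx : x ∈ Helper74.charCenter ψ) :
    (ψ : K → ℂ) (x * k * x⁻¹ * k⁻¹) = (ψ : K → ℂ) 1 := by
  obtain ⟨c, hc⟩ := hx
  set ρ := Helper74.irrRep ψ with hρ
  have hcomm : ρ x * ρ k = ρ k * ρ x := by
    rw [hc]; ext v; simp
  have h1 : ρ (x * k * x⁻¹ * k⁻¹) = 1 := by
    calc ρ (x * k * x⁻¹ * k⁻¹) = (ρ x * ρ k) * ρ x⁻¹ * ρ k⁻¹ := by simp only [map_mul]
      _ = ρ k * (ρ x * ρ x⁻¹) * ρ k⁻¹ := by rw [hcomm, mul_assoc (ρ k)]
      _ = 1 := by
        rw [← map_mul, mul_inv_cancel, map_one, mul_one, ← map_mul, mul_inv_cancel, map_one]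
  rw [← Helper74.irrRep_character ψ]
  show LinearMap.trace ℂ _ (ρ (x * k * x⁻¹ * k⁻¹)) = LinearMap.trace ℂ _ (ρ 1)
  rw [h1, map_one ρ]


/-- a linear character of the subgroup generated by the elements of order `p` that is trivial
on them is trivial -/
theorem eq_oneIrrG_of_normalClosure {G : Type u} [Group G] [Finite G] (p : ℕ)
    (K : Subgroup G) (hK : K = Subgroup.normalClosure {g : G | orderOf g = p})
    (μ : IrrCharacter K) (hμ1 : charDegree (μ : K → ℂ) = 1)
    (hμ : ∀ k : K, orderOf k = p → (μ : K → ℂ) k = 1) : μ = oneIrrG K := by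
  have hchar : IsCharacter K (μ : K → ℂ) := Helper74.irr_isCharacter μ
  have h1 : (μ : K → ℂ) 1 = 1 := by
    rw [Helper79.irr_one, hμ1]
    simp
  have hmul : ∀ a b : K, (μ : K → ℂ) (a * b) = (μ : K → ℂ) a * (μ : K → ℂ) b :=
    fun a b => Helper79.isCharacter_linear_mul hchar h1 a b
  -- the kernel, as a subgroup of `G`
  let H : Subgroup G :=
    { carrier := {g | ∃ hg : g ∈ K, (μ : K → ℂ) ⟨g, hg⟩ = 1}
      one_mem' := ⟨K.one_mem, h1⟩
      mul_mem' := by
        rintro a b ⟨ha, ha1⟩ ⟨hb, hb1⟩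
        refine ⟨K.mul_mem ha hb, ?_⟩
        have := hmul ⟨a, ha⟩ ⟨b, hb⟩
        rw [ha1, hb1, one_mul] at this
        exact this
      inv_mem' := by
        rintro a ⟨ha, ha1⟩
        refine ⟨K.inv_mem ha, ?_⟩
        have := hmul ⟨a, ha⟩ ⟨a⁻¹, K.inv_mem ha⟩
        have e : (⟨a, ha⟩ : K) * ⟨a⁻¹, K.inv_mem ha⟩ = 1 := by
          apply Subtype.ext
          simp
        rw [e, h1, ha1, one_mul] at this
        exact this.symm }
  have hle : K ≤ H := by
    rw [hK, Subgroup.normalClosure, Subgroup.closure_le]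
    intro g hg
    have hgK : g ∈ K := by
      rw [hK, Subgroup.normalClosure]
      exact Subgroup.subset_closure hg
    refine ⟨hgK, ?_⟩
    apply hμ
    rw [Subgroup.orderOf_mk]
    obtain ⟨a, ha, hc⟩ := Group.mem_conjugatesOfSet_iff.mp hg
    have ha' : orderOf a = p := ha
    obtain ⟨c, rfl⟩ := isConj_iff.mp hc
    rw [← ha']
    exact (SemiconjBy.orderOf_eq c (show SemiconjBy c a (c * a * c⁻¹) by
      unfold SemiconjBy; group)).symm
  apply Subtype.ext
  funext k
  obtain ⟨hk, hk1⟩ := hle k.2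
  show (μ : K → ℂ) k = 1
  exact hk1


/-- **Brauer.** If `|P| = p` and `G` has a faithful character of degree `< (p-1)/2`, then `P` is
normal. -/
theorem sylow_normal_of_small_faithful {G : Type u} [Group G] [Fintype G] {p : ℕ}
    [Fact p.Prime] (P : Sylow p G) (hP : Nat.card P = p) (χ : G → ℂ) (hχ : IsCharacter G χ)
    (hfaith : ∀ g : G, χ g = χ 1 → g = 1) (hsmall : 2 * charDegree χ + 1 < p) :
    (P : Subgroup G).Normal := by
  classical
  have hp : p.Prime := Fact.out
  set K : Subgroup G := Subgroup.normalClosure {g : G | orderOf g = p} with hK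
  have hSK : {g : G | orderOf g = p} ⊆ K := Subgroup.subset_normalClosure
  have hPK : (P : Subgroup G) ≤ K := by
    intro x hx
    by_cases hx1 : x = 1
    · rw [hx1]; exact K.one_mem
    · exact hSK (Helper70.DefOneXG.orderOf_eq_of_mem_sylow P hP hx hx1)
  set PK : Sylow p K := P.subtype hPK with hPKdef
  have hPKcard : Nat.card PK = p := by
    exact (Nat.card_congr (Subgroup.subgroupOfEquivOfLe hPK).toEquiv).trans hP
  have hgenK : ∀ μ : IrrCharacter K, charDegree (μ : K → ℂ) = 1 →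
      (∀ k : K, orderOf k = p → (μ : K → ℂ) k = 1) → μ = oneIrrG K :=
    fun μ h1 h2 => eq_oneIrrG_of_normalClosure p K hK μ h1 h2
  -- the decomposition of the restriction
  haveI : Fintype (IrrCharacter K) := Helper74.irrFintype K
  have hχK : IsCharacter K (fun k : K => χ k) := Helper74.isCharacter_restrict K hχ
  have hdec := Helper74.isCharacter_eq_sum_irr hχK
  have hnat : ∀ ψ : IrrCharacter K, ∃ n : ℕ,
      classInner (fun k : K => χ k) (ψ : K → ℂ) = n :=
    fun ψ => Helper74.isCharacter_inner_irr_nat hχK ψ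
  choose n hn using hnat
  have hval : ∀ k : K, χ k = ∑ ψ : IrrCharacter K, (n ψ : ℂ) * (ψ : K → ℂ) k := by
    intro k
    have := congrFun hdec k
    simp only [Finset.sum_apply, Pi.smul_apply, smul_eq_mul] at this
    rw [this]
    exact Finset.sum_congr rfl (fun ψ _ => by rw [hn ψ])
  -- the degrees of the constituents
  have hdegle : ∀ ψ : IrrCharacter K, n ψ ≠ 0 →
      charDegree (ψ : K → ℂ) ≤ charDegree χ := by
    intro ψ hψ
    have h1 := hval 1
    rw [Subgroup.coe_one, Helper79.isCharacter_one hχ] at h1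
    have h2 : (charDegree χ : ℂ) =
        ((∑ ψ : IrrCharacter K, n ψ * charDegree (ψ : K → ℂ) : ℕ) : ℂ) := by
      rw [h1]
      push_cast
      exact Finset.sum_congr rfl (fun ψ _ => by rw [Helper79.irr_one])
    have h3 : charDegree χ = ∑ ψ : IrrCharacter K, n ψ * charDegree (ψ : K → ℂ) := by
      exact_mod_cast h2
    rw [h3]
    calc charDegree (ψ : K → ℂ) ≤ n ψ * charDegree (ψ : K → ℂ) :=
          Nat.le_mul_of_pos_left _ (Nat.pos_of_ne_zero hψ)
      _ ≤ ∑ ψ : IrrCharacter K, n ψ * charDegree (ψ : K → ℂ) :=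
          Finset.single_le_sum (f := fun ψ : IrrCharacter K => n ψ * charDegree (ψ : K → ℂ))
            (fun _ _ => Nat.zero_le _) (Finset.mem_univ ψ)
  -- `P` centralizes `K`
  have hcomm : ∀ x : G, x ∈ (P : Subgroup G) → ∀ k : G, k ∈ K → x * k * x⁻¹ * k⁻¹ = 1 := by
    intro x hx k hk
    apply hfaith
    have e1 : χ (x * k * x⁻¹ * k⁻¹) =
        χ (((⟨x, hPK hx⟩ : K) * ⟨k, hk⟩ * (⟨x, hPK hx⟩ : K)⁻¹ * (⟨k, hk⟩ : K)⁻¹ : K) : G) := rfl
    have e2 : χ 1 = χ ((1 : K) : G) := rfl
    rw [e1, e2, hval, hval]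
    refine Finset.sum_congr rfl (fun ψ _ => ?_)
    by_cases hψ : n ψ = 0
    · rw [hψ]; simp
    · congr 1
      apply apply_commutator_of_mem_charCenter
      have hxPK : (⟨x, hPK hx⟩ : K) ∈ (PK : Subgroup K) := by
        rw [hPKdef, Sylow.coe_subtype, Subgroup.mem_subgroupOf]
        exact hx
      exact mem_charCenter_of_small PK hPKcard hgenK ψ
        (by have := hdegle ψ hψ; omega) _ hxPK
  -- `P` is normal
  constructor
  intro x hx g
  have hxK : x ∈ K := hPK hx
  have hKn : K.Normal := Subgroup.normalClosure_normal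
  have hyK : g * x * g⁻¹ ∈ K := hKn.conj_mem x hxK g
  have hpow : (g * x * g⁻¹) ^ p ^ 1 = 1 := by
    rw [pow_one, conj_pow]
    have : x ^ p = 1 := by
      have h1 := orderOf_dvd_natCard (⟨x, hx⟩ : (P : Subgroup G))
      rw [hP, Subgroup.orderOf_mk] at h1
      exact orderOf_dvd_iff_pow_eq_one.mp h1
    rw [this]
    group
  apply Helper70.DefOneXG.mem_sylow_of_pow P hpow
  apply Subgroup.centralizer_le_normalizer
  rw [Subgroup.mem_centralizer_iff]
  intro z hz
  have := hcomm z hz _ hyK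
  -- z * y * z⁻¹ * y⁻¹ = 1 → z * y = y * z
  have h2 : z * (g * x * g⁻¹) = (g * x * g⁻¹) * z := by
    have h3 : z * (g * x * g⁻¹) * z⁻¹ * (g * x * g⁻¹)⁻¹ = 1 := this
    calc z * (g * x * g⁻¹) = (z * (g * x * g⁻¹) * z⁻¹ * (g * x * g⁻¹)⁻¹) * ((g * x * g⁻¹) * z) := by
          group
      _ = (g * x * g⁻¹) * z := by rw [h3, one_mul]
  exact h2

end Cfsg.Agent.Helper57.BH
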