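import Cfsg.Agent.Helper57.BH.Pieces

/-!
# S4503: the counting argument in the principal block
-/

set_option autoImplicit false

namespace Cfsg.Agent.Helper57.BH

open Cfsg Cfsg.Agent.Helper16 Cfsg.Agent.Helper16.DefOne Cfsg.Agent.Helper82.DefOne
  Cfsg.Agent.Helper77.DefOne
open scoped ComplexConjugate

universe u

variable {G : Type u} [Group G] [Fintype G] {p : ℕ} [Fact p.Prime] (P : Sylow p G)

theorem isCharacter_mulConj (ψ ψ₂ : IrrCharacter G) :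
    IsCharacter G (mulConj (ψ : G → ℂ) (ψ₂ : G → ℂ)) :=
  Helper74.isCharacter_mul (Helper74.irr_isCharacter ψ)
    (Helper74.isCharacter_conj (Helper74.irr_isCharacter ψ₂))

/-- arithmetic, case `δ = 1` -/
theorem arith_pos (f p a m : ℕ) (hf2 : 2 ≤ f) (hfp : 2 * f + 1 < p) (ham : a + m = f)
    (ha : 1 ≤ a) (SP : ℕ) (hSP : 1 + (a - 1) * (p + 1) ≤ SP)
    (hrel : (f : ℤ) = (SP : ℤ) - (m : ℤ) * ((p : ℤ) - 1))
    (hz : ((p : ℝ) - 1) * m + f ≤ (f : ℝ) ^ 2) : False := by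
  obtain ⟨a', rfl⟩ : ∃ a', a = a' + 1 := ⟨a - 1, by omega⟩
  simp only [Nat.add_sub_cancel] at hSP
  have hSP' : (1 : ℤ) + (a' : ℤ) * ((p : ℤ) + 1) ≤ (SP : ℤ) := by exact_mod_cast hSP
  have hf : (f : ℤ) = (a' : ℤ) + 1 + m := by exact_mod_cast ham.symm
  have hp0 : (0 : ℤ) < p := by omega
  -- 2 m ≥ f - 1
  have h1 : (a' : ℤ) * p ≤ (m : ℤ) * p := by nlinarith
  have h2 : (a' : ℤ) ≤ m := le_of_mul_le_mul_right h1 hp0
  have hz' : ((p : ℤ) - 1) * m + f ≤ (f : ℤ) ^ 2 := by exact_mod_cast hz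
  have hf2' : (2 : ℤ) ≤ f := by exact_mod_cast hf2
  have hfp' : 2 * (f : ℤ) + 1 < p := by exact_mod_cast hfp
  have h3 : (f : ℤ) - 1 ≤ 2 * m := by omega
  nlinarith [mul_nonneg (show (0 : ℤ) ≤ (p : ℤ) - 2 - 2 * f by omega)
    (show (0 : ℤ) ≤ (f : ℤ) - 1 by omega),
    mul_nonneg (show (0 : ℤ) ≤ (p : ℤ) - 1 by omega) (show (0 : ℤ) ≤ 2 * (m : ℤ) - (f - 1) by omega)]

/-- arithmetic, case `δ = -1` -/
theorem arith_neg (f p a m d : ℕ) (hf2 : 2 ≤ f) (hfp : 2 * f + 1 < p) (ham : a + m = f)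
    (ha : 1 ≤ a) (hd : 1 ≤ d) (SP : ℕ) (hSP : 1 + (a - 1) * (p + 1) ≤ SP)
    (hrel : -(d : ℤ) = (SP : ℤ) - (m : ℤ) * ((p : ℤ) - 1))
    (hz : ((p : ℝ) - 1) * m ≤ (f : ℝ) ^ 2) : False := by
  obtain ⟨a', rfl⟩ : ∃ a', a = a' + 1 := ⟨a - 1, by omega⟩
  simp only [Nat.add_sub_cancel] at hSP
  have hSP' : (1 : ℤ) + (a' : ℤ) * ((p : ℤ) + 1) ≤ (SP : ℤ) := by exact_mod_cast hSP
  have hf : (f : ℤ) = (a' : ℤ) + 1 + m := by exact_mod_cast ham.symm
  have hp0 : (0 : ℤ) < p := by omega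
  have hd' : (1 : ℤ) ≤ d := by exact_mod_cast hd
  have h1 : (a' : ℤ) * p < (m : ℤ) * p := by nlinarith
  have h2 : (a' : ℤ) < m := lt_of_mul_lt_mul_right h1 hp0.le
  have hz' : ((p : ℤ) - 1) * m ≤ (f : ℤ) ^ 2 := by exact_mod_cast hz
  have hf2' : (2 : ℤ) ≤ f := by exact_mod_cast hf2
  have hfp' : 2 * (f : ℤ) + 1 < p := by exact_mod_cast hfp
  have h3 : (f : ℤ) ≤ 2 * m := by omega
  nlinarith [mul_nonneg (show (0 : ℤ) ≤ (p : ℤ) - 2 - 2 * f by omega)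
    (show (0 : ℤ) ≤ (f : ℤ) by omega),
    mul_nonneg (show (0 : ℤ) ≤ (p : ℤ) - 1 by omega) (show (0 : ℤ) ≤ 2 * (m : ℤ) - f by omega)]


open Classical in
/-- **The counting argument in the principal block.** -/
theorem principal_counting (hP : Nat.card P = p)
    [((P : Subgroup G).subgroupOf (nor P)).Normal] (hmod : ModCount p P)
    (hgen : ∀ μ : IrrCharacter G, charDegree (μ : G → ℂ) = 1 →
      (∀ g : G, orderOf g = p → (μ : G → ℂ) g = 1) → μ = oneIrrG G)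
    (ψ ψ₂ : IrrCharacter G) (hne : ψ ≠ ψ₂)
    (hreg : ∀ g : G, ¬ p ∣ orderOf g → (ψ₂ : G → ℂ) g = (ψ : G → ℂ) g)
    (hfix : pSum P (mulConj (ψ : G → ℂ) (ψ₂ : G → ℂ)) = 0)
    (hz1 : z1Sum P (mulConj (ψ : G → ℂ) (ψ₂ : G → ℂ)) ≤
      (((cen P).relIndex (nor P) : ℕ) : ℝ) ^ 2)
    (hf2 : 2 ≤ (cen P).relIndex (nor P)) (hfp : 2 * (cen P).relIndex (nor P) + 1 < p) :
    False := by
  haveI : Finite (IrrCharacter G) := Helper79.irr_finite'
  have hp : p.Prime := Fact.out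
  obtain ⟨X, Y, ε, δ, D⟩ := exists_isRData P hP hmod (oneIrr P) (isCanon_oneIrr P)
  set f := (cen P).relIndex (nor P) with hf
  have hin : inertia P (oneIrr P) = f := inertia_oneIrr P hP
  have hPi1 := isCharacter_mulConj ψ ψ
  have hPi2 := isCharacter_mulConj ψ ψ₂
  -- multiplicities
  have hn₁ : ∀ χ : IrrCharacter G, ∃ n : ℕ,
      classInner (mulConj (ψ : G → ℂ) (ψ : G → ℂ)) (χ : G → ℂ) = n :=
    fun χ => Helper74.isCharacter_inner_irr_nat hPi1 χ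
  have hn₂ : ∀ χ : IrrCharacter G, ∃ n : ℕ,
      classInner (mulConj (ψ : G → ℂ) (ψ₂ : G → ℂ)) (χ : G → ℂ) = n :=
    fun χ => Helper74.isCharacter_inner_irr_nat hPi2 χ
  choose n₁ hn₁ using hn₁
  choose n₂ hn₂ using hn₂
  -- the non-exceptional characters
  have hdiffX : ∀ χ ∈ X, (n₁ χ : ℤ) - n₂ χ = ε χ := by
    intro χ hχ
    have h := classInner_mulConj_sub (p := p) ψ ψ₂ hne hreg (χ : G → ℂ) (ε χ : ℂ)
      (fun g hg => apply_singular_X0 P hP D χ hχ g hg)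
    rw [hn₁, hn₂] at h
    have h' : ((((n₁ χ : ℤ) - n₂ χ : ℤ)) : ℂ) = ((ε χ : ℤ) : ℂ) := by
      push_cast
      rw [h]
      simp
    exact_mod_cast h'
  have hXfin : X.Finite := Set.toFinite X
  have hYfin : Y.Finite := Set.toFinite Y
  have hcardX : hXfin.toFinset.card = f := by
    rw [← hin, ← D.cardX, ← Set.ncard_eq_toFinset_card _ hXfin]
    exact (Nat.card_coe_set_eq _).symm
  -- constituents of `Π₂` have no `P`-fixed points
  have hnofix : ∀ χ : IrrCharacter G, 1 ≤ n₂ χ → pSum P (χ : G → ℂ) = 0 := by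
    intro χ hχ
    apply pSum_eq_zero_of_constituent P hP _ hPi2 hfix χ
    rw [hn₂]
    exact_mod_cast (by omega : n₂ χ ≠ 0)
  -- the minus characters
  have hminus : ∀ χ ∈ X, ε χ = -1 → 1 ≤ n₂ χ ∧ charDegree (χ : G → ℂ) = p - 1 := by
    intro χ hχ hε
    have h1 := hdiffX χ hχ
    rw [hε] at h1
    have h2 : 1 ≤ n₂ χ := by omega
    refine ⟨h2, ?_⟩
    have h3 := hnofix χ h2
    rw [pSum_X0 P hP D χ hχ, hε] at h3
    have h4 : ((charDegree (χ : G → ℂ) : ℤ) : ℂ) = (((p : ℤ) - 1 : ℤ) : ℂ) := by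
      push_cast
      linear_combination h3
    have h5 : (charDegree (χ : G → ℂ) : ℤ) = (p : ℤ) - 1 := by exact_mod_cast h4
    have hp1 : 1 ≤ p := hp.one_lt.le
    omega
  -- the plus characters
  have hone := oneIrrG_mem_X0 P hP D (by omega)
  have hplus : ∀ χ ∈ X, ε χ = 1 → χ ≠ oneIrrG G → p + 1 ≤ charDegree (χ : G → ℂ) := by
    intro χ hχ hε hχ1
    have hdeg := D.degX χ hχ
    rw [hε, hin, Nat.div_self (by omega : 0 < f), charDegree_oneIrr] at hdeg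
    have hpos : 0 < charDegree (χ : G → ℂ) := Helper79.irr_charDegree_pos χ
    have hne1 : charDegree (χ : G → ℂ) ≠ 1 := by
      intro h1
      apply hχ1
      apply hgen χ h1
      intro g hg
      have := apply_singular_X0 P hP D χ hχ g (by rw [hg])
      rw [this, hε]
      simp
    have hdvd : (p : ℤ) ∣ (charDegree (χ : G → ℂ) : ℤ) - 1 := by
      have := hdeg.symm.dvd
      simpa using this
    obtain ⟨k, hk⟩ := hdvd
    have hp0 : (0 : ℤ) < p := by exact_mod_cast hp.pos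
    have hk1 : 1 ≤ k := by
      by_contra hk0
      have hk0' : k ≤ 0 := by omega
      have h2 : (p : ℤ) * k ≤ 0 := mul_nonpos_of_nonneg_of_nonpos hp0.le hk0'
      have h3 : (charDegree (χ : G → ℂ) : ℤ) ≤ 1 := by linarith
      have h4 : (0 : ℤ) < (charDegree (χ : G → ℂ) : ℤ) := by exact_mod_cast hpos
      apply hne1
      have : (charDegree (χ : G → ℂ) : ℤ) = 1 := by omega
      exact_mod_cast this
    have h5 : (p : ℤ) * 1 ≤ (p : ℤ) * k := mul_le_mul_of_nonneg_left hk1 hp0.le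
    have : (p : ℤ) + 1 ≤ (charDegree (χ : G → ℂ) : ℤ) := by linarith
    exact_mod_cast this
  -- the two halves of `X`
  set Xp := hXfin.toFinset.filter (fun χ => ε χ = 1) with hXp
  set Xm := hXfin.toFinset.filter (fun χ => ε χ = -1) with hXm
  have hsplit : Xp.card + Xm.card = f := by
    rw [← hcardX, hXp, hXm]
    have : hXfin.toFinset.filter (fun χ => ε χ = -1) =
        hXfin.toFinset.filter (fun χ => ¬ ε χ = 1) := by
      apply Finset.filter_congr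
      intro χ _
      rcases D.eps χ with h | h <;> rw [h] <;> norm_num
    rw [this]
    exact Finset.card_filter_add_card_filter_not _
  have honeXp : oneIrrG G ∈ Xp := by
    rw [hXp, Finset.mem_filter]
    exact ⟨hXfin.mem_toFinset.mpr hone.1, hone.2⟩
  have hXp1 : 1 ≤ Xp.card := Finset.card_pos.mpr ⟨_, honeXp⟩
  -- the sum of the degrees over `Xp`
  have hSP : 1 + (Xp.card - 1) * (p + 1) ≤ ∑ χ ∈ Xp, charDegree (χ : G → ℂ) := by
    rw [← Finset.add_sum_erase Xp _ honeXp]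
    have h1 : charDegree ((oneIrrG G : IrrCharacter G) : G → ℂ) = 1 := by
      have : ((oneIrrG G : IrrCharacter G) : G → ℂ) 1 = (1 : ℂ) := rfl
      have h2 := Helper79.irr_one (oneIrrG G)
      rw [this] at h2
      exact_mod_cast h2.symm
    rw [h1]
    have h3 : (Xp.erase (oneIrrG G)).card • (p + 1) ≤
        ∑ χ ∈ Xp.erase (oneIrrG G), charDegree (χ : G → ℂ) := by
      apply Finset.card_nsmul_le_sum
      intro χ hχ
      rw [Finset.mem_erase, hXp, Finset.mem_filter] at hχ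
      exact hplus χ (hXfin.mem_toFinset.mp hχ.2.1) hχ.2.2 hχ.1
    rw [Finset.card_erase_of_mem honeXp, smul_eq_mul] at h3
    omega
  -- the sum of the degrees over `Xm`
  have hSM : ∑ χ ∈ Xm, (charDegree (χ : G → ℂ) : ℤ) = (Xm.card : ℤ) * ((p : ℤ) - 1) := by
    have hall : ∀ χ ∈ Xm, (charDegree (χ : G → ℂ) : ℤ) = (p : ℤ) - 1 := by
      intro χ hχ
      rw [hXm, Finset.mem_filter] at hχ
      have := (hminus χ (hXfin.mem_toFinset.mp hχ.1) hχ.2).2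
      have hp1 : 1 ≤ p := hp.one_lt.le
      omega
    rw [Finset.sum_congr rfl hall, Finset.sum_const, nsmul_eq_mul]
  -- the relation at `1`
  have h1reg : ¬ p ∣ orderOf (1 : G) := by
    rw [orderOf_one]
    exact hp.not_dvd_one
  have hrel1 : ∀ ψ₀ ∈ Y, δ * (charDegree (ψ₀ : G → ℂ) : ℤ) =
      (∑ χ ∈ Xp, (charDegree (χ : G → ℂ) : ℤ)) - (Xm.card : ℤ) * ((p : ℤ) - 1) := by
    intro ψ₀ hψ₀
    have h := D.rel ψ₀ hψ₀ 1 h1reg
    rw [finsum_mem_eq_finite_toFinset_sum _ hXfin, Helper79.irr_one] at h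
    have h2 : ∑ χ ∈ hXfin.toFinset, (ε χ : ℂ) * (χ : G → ℂ) 1 =
        ((∑ χ ∈ hXfin.toFinset, ε χ * (charDegree (χ : G → ℂ) : ℤ) : ℤ) : ℂ) := by
      push_cast
      refine Finset.sum_congr rfl (fun χ _ => ?_)
      rw [Helper79.irr_one]
    rw [h2] at h
    have h3 : δ * (charDegree (ψ₀ : G → ℂ) : ℤ) =
        ∑ χ ∈ hXfin.toFinset, ε χ * (charDegree (χ : G → ℂ) : ℤ) := by exact_mod_cast h
    rw [h3, ← hSM]
    have h4 : ∑ χ ∈ hXfin.toFinset, ε χ * (charDegree (χ : G → ℂ) : ℤ) =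
        ∑ χ ∈ Xp, ε χ * (charDegree (χ : G → ℂ) : ℤ) +
          ∑ χ ∈ hXfin.toFinset.filter (fun χ => ¬ ε χ = 1),
            ε χ * (charDegree (χ : G → ℂ) : ℤ) :=
      (Finset.sum_filter_add_sum_filter_not _ _ _).symm
    have h5 : hXfin.toFinset.filter (fun χ => ¬ ε χ = 1) = Xm := by
      rw [hXm]
      apply Finset.filter_congr
      intro χ _
      rcases D.eps χ with h | h <;> rw [h] <;> norm_num
    rw [h4, h5]
    have h6 : ∑ χ ∈ Xp, ε χ * (charDegree (χ : G → ℂ) : ℤ) =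
        ∑ χ ∈ Xp, (charDegree (χ : G → ℂ) : ℤ) := by
      refine Finset.sum_congr rfl (fun χ hχ => ?_)
      rw [hXp, Finset.mem_filter] at hχ
      rw [hχ.2, one_mul]
    have h7 : ∑ χ ∈ Xm, ε χ * (charDegree (χ : G → ℂ) : ℤ) =
        -∑ χ ∈ Xm, (charDegree (χ : G → ℂ) : ℤ) := by
      rw [← Finset.sum_neg_distrib]
      refine Finset.sum_congr rfl (fun χ hχ => ?_)
      rw [hXm, Finset.mem_filter] at hχ
      rw [hχ.2]
      ring
    rw [h6, h7]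
    ring
  -- `z1Sum` over `Xm`
  have hzXm : ((p : ℝ) - 1) * Xm.card ≤ ∑ χ ∈ Xm, z1Sum P (χ : G → ℂ) := by
    have : Xm.card • ((p : ℝ) - 1) ≤ ∑ χ ∈ Xm, z1Sum P (χ : G → ℂ) := by
      apply Finset.card_nsmul_le_sum
      intro χ hχ
      rw [hXm, Finset.mem_filter] at hχ
      exact z1Sum_X0 P hP D χ (hXfin.mem_toFinset.mp hχ.1) hχ.2
    rw [nsmul_eq_mul] at this
    linarith
  have hXmconst : ∀ χ ∈ Xm, classInner (mulConj (ψ : G → ℂ) (ψ₂ : G → ℂ)) (χ : G → ℂ) ≠ 0 := by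
    intro χ hχ
    rw [hXm, Finset.mem_filter] at hχ
    have := (hminus χ (hXfin.mem_toFinset.mp hχ.1) hχ.2).1
    rw [hn₂]
    exact_mod_cast (by omega : n₂ χ ≠ 0)
  -- `Y` is nonempty
  have hfdvd : f ∣ p - 1 := relIndex_cen_nor_dvd P hP
  have hYne : Y.Nonempty := by
    have h1 : 0 < Nat.card Y := by
      rw [D.cardY, hin]
      have hp1 : 0 < p - 1 := by omega
      exact Nat.div_pos (Nat.le_of_dvd hp1 hfdvd) (by omega)
    have : Nonempty Y := (Nat.card_pos_iff.mp h1).1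
    obtain ⟨ψ₀, hψ₀⟩ := this
    exact ⟨ψ₀, hψ₀⟩
  rcases D.del with hδ | hδ
  · -- `δ = 1`
    -- an exceptional constituent of `Π₂`
    have hY := classInner_mulConj_sub (p := p) ψ ψ₂ hne hreg
      (fun g => ∑ᶠ ψ₀ ∈ Y, (ψ₀ : G → ℂ) g) (-(δ : ℂ))
      (fun g hg => finsum_Y0_singular P hP hmod D g hg)
    have hfun : (fun g => ∑ᶠ ψ₀ ∈ Y, (ψ₀ : G → ℂ) g) =
        ∑ ψ₀ ∈ hYfin.toFinset, (ψ₀ : G → ℂ) := by
      funext g
      rw [finsum_mem_eq_finite_toFinset_sum _ hYfin, Finset.sum_apply]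
    rw [hfun, Helper74.classInner_sum_right, Helper74.classInner_sum_right, hδ] at hY
    have e1 : ∑ ψ₀ ∈ hYfin.toFinset, classInner (mulConj (ψ : G → ℂ) (ψ : G → ℂ)) (ψ₀ : G → ℂ) =
        ∑ ψ₀ ∈ hYfin.toFinset, (n₁ ψ₀ : ℂ) := Finset.sum_congr rfl (fun χ _ => hn₁ χ)
    have e2 : ∑ ψ₀ ∈ hYfin.toFinset, classInner (mulConj (ψ : G → ℂ) (ψ₂ : G → ℂ)) (ψ₀ : G → ℂ) =
        ∑ ψ₀ ∈ hYfin.toFinset, (n₂ ψ₀ : ℂ) := Finset.sum_congr rfl (fun χ _ => hn₂ χ)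
    rw [e1, e2] at hY
    have hY' : (((∑ ψ₀ ∈ hYfin.toFinset, (n₁ ψ₀ : ℤ)) - ∑ ψ₀ ∈ hYfin.toFinset, (n₂ ψ₀ : ℤ) : ℤ) : ℂ) =
        ((-1 : ℤ) : ℂ) := by
      push_cast
      rw [hY]
      simp
    have hY'' : (∑ ψ₀ ∈ hYfin.toFinset, (n₁ ψ₀ : ℤ)) - ∑ ψ₀ ∈ hYfin.toFinset, (n₂ ψ₀ : ℤ) = -1 := by
      exact_mod_cast hY'
    have hex : ∃ ψ₀ ∈ hYfin.toFinset, 1 ≤ n₂ ψ₀ := by
      by_contra hcon
      simp only [not_exists, not_and, not_le] at hcon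
      have h0 : ∑ ψ₀ ∈ hYfin.toFinset, (n₂ ψ₀ : ℤ) = 0 := by
        apply Finset.sum_eq_zero
        intro χ hχ
        have := hcon χ hχ
        have : n₂ χ = 0 := by omega
        rw [this]
        rfl
      have h1 : 0 ≤ ∑ ψ₀ ∈ hYfin.toFinset, (n₁ ψ₀ : ℤ) :=
        Finset.sum_nonneg (fun _ _ => by positivity)
      omega
    obtain ⟨ψ₀, hψ₀, hn⟩ := hex
    have hψ₀Y : ψ₀ ∈ Y := hYfin.mem_toFinset.mp hψ₀
    have hd0 : charDegree (ψ₀ : G → ℂ) = f := by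
      have h3 := hnofix ψ₀ hn
      rw [pSum_Y0 P hP hmod D ψ₀ hψ₀Y, hδ] at h3
      have h4 : ((charDegree (ψ₀ : G → ℂ) : ℤ) : ℂ) = ((f : ℤ) : ℂ) := by
        push_cast
        linear_combination h3
      exact_mod_cast h4
    have hrel := hrel1 ψ₀ hψ₀Y
    rw [hδ, one_mul, hd0] at hrel
    -- `z1Sum`
    have hψ₀X : ψ₀ ∉ Xm := by
      intro h
      rw [hXm, Finset.mem_filter] at h
      exact Set.disjoint_left.mp D.disj (hXfin.mem_toFinset.mp h.1) hψ₀Y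
    have hz := z1Sum_ge_sum P _ hPi2 (insert ψ₀ Xm) (by
      intro χ hχ
      rw [Finset.mem_insert] at hχ
      rcases hχ with rfl | hχ
      · rw [hn₂]
        exact_mod_cast (by omega : n₂ χ ≠ 0)
      · exact hXmconst χ hχ)
    rw [Finset.sum_insert hψ₀X] at hz
    have hzY := z1Sum_Y0 P hP D ψ₀ hψ₀Y hδ
    have hfinal : ((p : ℝ) - 1) * Xm.card + f ≤ (f : ℝ) ^ 2 := by linarith
    exact arith_pos f p Xp.card Xm.card hf2 hfp hsplit hXp1 _ hSP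
      (by push_cast at hrel ⊢; linarith) hfinal
  · -- `δ = -1`
    obtain ⟨ψ₀, hψ₀Y⟩ := hYne
    have hrel := hrel1 ψ₀ hψ₀Y
    rw [hδ] at hrel
    have hz := z1Sum_ge_sum P _ hPi2 Xm hXmconst
    have hfinal : ((p : ℝ) - 1) * Xm.card ≤ (f : ℝ) ^ 2 := by linarith
    exact arith_neg f p Xp.card Xm.card (charDegree (ψ₀ : G → ℂ)) hf2 hfp hsplit hXp1
      (Helper79.irr_charDegree_pos ψ₀) _ hSP (by push_cast at hrel ⊢; linarith) hfinal

end Cfsg.Agent.Helper57.BH
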