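import Cfsg.Agent.Helper16.DefOne.Principal
import Cfsg.Agent.Helper74.CharCenter
import Cfsg.Agent.Helper74.LinTwist

/-!
# Brauer's `(p-1)/2` theorem (S4503): definitions and the bundled structure of `R_θ`

`IsRData P θ X Y ε δ` bundles the conclusion of `Helper16.DefOne.Rset_main` (the structure of the
block `R_θ` of a group with a Sylow `p`-subgroup of order `p`), with two more clauses from
`exists_rows` (every non-canonical `φ` over `θ` is seen by exactly one exceptional character).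
-/

set_option autoImplicit false

namespace Cfsg.Agent.Helper57.BH

open Cfsg Cfsg.Agent.Helper16 Cfsg.Agent.Helper16.DefOne Cfsg.Agent.Helper82.DefOne
  Cfsg.Agent.Helper77.DefOne
open scoped ComplexConjugate

universe u

variable {G : Type u} [Group G] [Fintype G] {p : ℕ} [Fact p.Prime]

open Classical in
/-- the structure of `R_θ` (the conclusion of `Rset_main`), bundled -/
structure IsRData (P : Sylow p G) (θ : IrrCharacter (cen P)) (X Y : Set (IrrCharacter G))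
    (ε : IrrCharacter G → ℤ) (δ : ℤ) : Prop where
  union : Rset P θ = X ∪ Y
  disj : Disjoint X Y
  cardX : Nat.card X = inertia P θ
  cardY : Nat.card Y = (p - 1) / inertia P θ
  eps : ∀ χ, ε χ = 1 ∨ ε χ = -1
  del : δ = 1 ∨ δ = -1
  valX : ∀ χ ∈ X, ∀ c : cen P, p ∣ orderOf c → (χ : G → ℂ) (c : G) =
    (ε χ : ℂ) * ∑ᶠ θ' ∈ MulAction.orbit (nor P) θ, (θ' : cen P → ℂ) c
  degX : ∀ χ ∈ X, (charDegree (χ : G → ℂ) : ℤ) ≡ ε χ *
    (((cen P).relIndex (nor P) / inertia P θ * charDegree (θ : cen P → ℂ) : ℕ) : ℤ) [ZMOD p]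
  degY : ∀ ψ ∈ Y, (charDegree (ψ : G → ℂ) : ℤ) ≡ δ *
    (((cen P).relIndex (nor P) * charDegree (θ : cen P → ℂ) : ℕ) : ℤ) [ZMOD p]
  rel : ∀ ψ ∈ Y, ∀ g : G, ¬ p ∣ orderOf g →
    (δ : ℂ) * (ψ : G → ℂ) g = ∑ᶠ χ ∈ X, (ε χ : ℂ) * (χ : G → ℂ) g
  rowX : ∀ χ ∈ X, ∀ φ : IrrCharacter (cen P), can P φ = θ → ¬ IsCanon P φ → rowZ P χ φ = -ε χ
  rowY : ∀ ψ ∈ Y, ∃ φ₀ : IrrCharacter (cen P), can P φ₀ = θ ∧ ¬ IsCanon P φ₀ ∧
    ∀ φ : IrrCharacter (cen P), can P φ = θ → ¬ IsCanon P φ →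
      rowZ P ψ φ = if ∃ n : nor P, n • φ = φ₀ then δ else 0
  exY : ∀ φ : IrrCharacter (cen P), can P φ = θ → ¬ IsCanon P φ → ∃ ψ ∈ Y, rowZ P ψ φ ≠ 0
  uniqY : ∀ ψ ∈ Y, ∀ ψ' ∈ Y, ∀ φ : IrrCharacter (cen P), can P φ = θ → ¬ IsCanon P φ →
    rowZ P ψ φ ≠ 0 → rowZ P ψ' φ ≠ 0 → ψ = ψ'

open Classical in
/-- `Rset_main` with the two extra clauses of `exists_rows` (same proof as
`Helper16.DefOne.Rset_main`). -/
theorem exists_isRData (P : Sylow p G) (hP : Nat.card P = p)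
    [((P : Subgroup G).subgroupOf (nor P)).Normal]
    (hmod : ModCount p P) (θ : IrrCharacter (cen P)) (hθ : IsCanon P θ) :
    ∃ (X Y : Set (IrrCharacter G)) (ε : IrrCharacter G → ℤ) (δ : ℤ), IsRData P θ X Y ε δ := by
  haveI : Finite (IrrCharacter G) := Helper79.irr_finite'
  have hp : p.Prime := Fact.out
  have heq := inertia_mul_card_Rset_eq P hP hmod θ hθ
  obtain ⟨X, Y, s, hXY, hdisj, hcX, hcY, hs, hX, hY, hYex, hYuniq⟩ := exists_rows P hP θ hθ heq
  have hsne : ∀ χ, s χ ≠ 0 := by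
    intro χ
    rcases hs χ with h | h <;> rw [h] <;> norm_num
  have hepos : 0 < inertia P θ := inertia_pos P hP θ
  have hef : inertia P θ ∣ (cen P).relIndex (nor P) := inertia_dvd P hP θ
  -- the relation for each exceptional character
  have hrel : ∀ ψ ∈ Y, ∀ g : G, ¬ p ∣ orderOf g →
      ∑ᶠ χ ∈ X, (s χ : ℂ) * (χ : G → ℂ) g + (s ψ : ℂ) * (ψ : G → ℂ) g = 0 := by
    intro ψ hψ g hg
    obtain ⟨φ₀, h1, h2, h3⟩ := hY ψ hψ
    have hrow : rowZ P ψ φ₀ = s ψ := by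
      rw [h3 φ₀ h1 h2, if_pos ⟨1, one_smul _ _⟩]
    exact relation_of_rows P hP θ X Y s hXY hdisj hX hYuniq ψ hψ φ₀ h1 h2 hrow (hsne ψ) g hg
  have h1reg : ¬ p ∣ orderOf (1 : G) := by
    rw [orderOf_one]
    exact hp.not_dvd_one
  -- the common sign
  have hdegpos : ∀ ψ : IrrCharacter G, (0 : ℤ) < (charDegree (ψ : G → ℂ) : ℤ) := by
    intro ψ
    exact_mod_cast Nat.pos_of_ne_zero (charDegree_ne_zero' ψ)
  have hsign : ∀ ψ ∈ Y, ∀ ψ' ∈ Y, s ψ = s ψ' := by
    intro ψ hψ ψ' hψ'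
    have h1 := hrel ψ hψ 1 h1reg
    have h2 := hrel ψ' hψ' 1 h1reg
    have h3 : (s ψ : ℂ) * (ψ : G → ℂ) 1 = (s ψ' : ℂ) * (ψ' : G → ℂ) 1 := by
      have : (s ψ : ℂ) * (ψ : G → ℂ) 1 = -∑ᶠ χ ∈ X, (s χ : ℂ) * (χ : G → ℂ) 1 := by
        rw [eq_neg_iff_add_eq_zero, add_comm]; exact h1
      rw [this, eq_comm, eq_neg_iff_add_eq_zero, add_comm]
      exact h2
    rw [irr_one_eq_natCast ψ, irr_one_eq_natCast ψ'] at h3
    have h4 : s ψ * (charDegree (ψ : G → ℂ) : ℤ) = s ψ' * (charDegree (ψ' : G → ℂ) : ℤ) := by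
      exact_mod_cast h3
    have hd := hdegpos ψ
    have hd' := hdegpos ψ'
    rcases hs ψ with h | h <;> rcases hs ψ' with h' | h' <;> rw [h, h'] at h4 ⊢ <;> omega
  let δ : ℤ := if h : Y.Nonempty then s h.some else 1
  have hδ : ∀ ψ ∈ Y, s ψ = δ := by
    intro ψ hψ
    have hne : Y.Nonempty := ⟨ψ, hψ⟩
    show s ψ = if h : Y.Nonempty then s h.some else 1
    rw [dif_pos hne]
    exact hsign ψ hψ _ hne.some_mem
  have hδ1 : δ = 1 ∨ δ = -1 := by
    show (if h : Y.Nonempty then s h.some else 1) = 1 ∨ (if h : Y.Nonempty then s h.some else 1) = -1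
    split_ifs with h
    · exact hs _
    · exact Or.inl rfl
  -- values of the non-exceptional characters
  have hval : ∀ χ ∈ X, ∀ c : cen P, p ∣ orderOf c → (χ : G → ℂ) (c : G) =
      ((-s χ : ℤ) : ℂ) * ∑ᶠ θ' ∈ MulAction.orbit (nor P) θ, (θ' : cen P → ℂ) c := by
    intro χ hχ c hc
    have hzero : ∀ φ : IrrCharacter (cen P), (¬ ∃ n : nor P, n • θ = can P φ) →
        rowZ P χ φ = 0 := by
      intro φ hφ
      by_contra hne
      have h1 : χ ∈ Rset P (can P φ) := ⟨φ, rfl, hne⟩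
      have h2 : χ ∈ Rset P θ := by rw [hXY]; exact Or.inl hχ
      exact Set.disjoint_left.mp
        (Rset_disjoint P hP hmod θ (can P φ) hθ (isCanon_can P hP φ) hφ) h2 h1
    rw [apply_singular_of_rows P hP χ θ hθ (s χ) (hX χ hχ) hzero c hc]
    push_cast
    ring
  -- degrees of the non-exceptional characters
  have hdegX : ∀ χ ∈ X, (charDegree (χ : G → ℂ) : ℤ) ≡ (-s χ) *
      (((cen P).relIndex (nor P) / inertia P θ * charDegree (θ : cen P → ℂ) : ℕ) : ℤ)
        [ZMOD p] := by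
    intro χ hχ
    apply degree_modEq_of_const P hP χ
    intro x hx hx1
    have h1 := hval χ hχ ⟨x, le_cen P hP hx⟩ (dvd_orderOf_of_mem P hP x hx hx1)
    rw [finsum_orbit_apply_of_mem P hP θ hθ ⟨x, le_cen P hP hx⟩ hx] at h1
    rw [h1]
    simp only [Int.cast_mul, Int.cast_neg, Int.cast_natCast]
  refine ⟨X, Y, fun χ => -s χ, δ, ⟨hXY, hdisj, hcX, hcY, ?_, hδ1, hval, hdegX, ?_, ?_, ?_, ?_, hYex, hYuniq⟩⟩
  · intro χ
    show -s χ = 1 ∨ -s χ = -1
    rcases hs χ with h | h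
    · right; rw [h]
    · left; rw [h]; norm_num
  · -- degrees of the exceptional characters
    intro ψ hψ
    have h1 := hrel ψ hψ 1 h1reg
    rw [hδ ψ hψ] at h1
    have hXfin : X.Finite := Set.toFinite X
    rw [finsum_mem_eq_finite_toFinset_sum _ hXfin] at h1
    have h2 : ∑ χ ∈ hXfin.toFinset, (s χ : ℂ) * (χ : G → ℂ) 1 =
        ((∑ χ ∈ hXfin.toFinset, s χ * (charDegree (χ : G → ℂ) : ℤ) : ℤ) : ℂ) := by
      push_cast
      refine Finset.sum_congr rfl (fun χ _ => ?_)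
      rw [irr_one_eq_natCast χ]
    rw [h2, irr_one_eq_natCast ψ] at h1
    have h3 : (∑ χ ∈ hXfin.toFinset, s χ * (charDegree (χ : G → ℂ) : ℤ)) +
        δ * (charDegree (ψ : G → ℂ) : ℤ) = 0 := by exact_mod_cast h1
    -- reduce modulo `p`
    have h4 : (∑ χ ∈ hXfin.toFinset, s χ * (charDegree (χ : G → ℂ) : ℤ)) ≡
        ∑ χ ∈ hXfin.toFinset, (-(((cen P).relIndex (nor P) / inertia P θ *
          charDegree (θ : cen P → ℂ) : ℕ) : ℤ)) [ZMOD p] := by
      rw [← ZMod.intCast_eq_intCast_iff]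
      push_cast
      refine Finset.sum_congr rfl (fun χ hχ => ?_)
      have hχX : χ ∈ X := hXfin.mem_toFinset.mp hχ
      have h5 := (ZMod.intCast_eq_intCast_iff _ _ _).mpr (hdegX χ hχX)
      push_cast at h5
      rw [h5]
      rcases hs χ with h | h <;> rw [h] <;> push_cast <;> ring
    rw [Finset.sum_const, nsmul_eq_mul] at h4
    have hcard : hXfin.toFinset.card = inertia P θ := by
      rw [← hcX, ← Set.ncard_eq_toFinset_card _ hXfin]
      exact (Nat.card_coe_set_eq _).symm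
    rw [hcard] at h4
    have h6 : δ * (charDegree (ψ : G → ℂ) : ℤ) ≡
        (((cen P).relIndex (nor P) * charDegree (θ : cen P → ℂ) : ℕ) : ℤ) [ZMOD p] := by
      have h7 : δ * (charDegree (ψ : G → ℂ) : ℤ) =
          -(∑ χ ∈ hXfin.toFinset, s χ * (charDegree (χ : G → ℂ) : ℤ)) := by linarith
      rw [h7]
      have h8 := h4.neg
      refine h8.trans ?_
      have h9 : (cen P).relIndex (nor P) / inertia P θ * inertia P θ = (cen P).relIndex (nor P) :=
        Nat.div_mul_cancel hef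
      have : -((inertia P θ : ℤ) * -(((cen P).relIndex (nor P) / inertia P θ *
          charDegree (θ : cen P → ℂ) : ℕ) : ℤ)) =
          (((cen P).relIndex (nor P) * charDegree (θ : cen P → ℂ) : ℕ) : ℤ) := by
        have h9' : (((cen P).relIndex (nor P) : ℕ) : ℤ) =
            (((cen P).relIndex (nor P) / inertia P θ : ℕ) : ℤ) * (inertia P θ : ℤ) := by
          exact_mod_cast h9.symm
        rw [Nat.cast_mul, Nat.cast_mul, h9']
        ring
      rw [this]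
    have h10 : (charDegree (ψ : G → ℂ) : ℤ) = δ * (δ * (charDegree (ψ : G → ℂ) : ℤ)) := by
      rcases hδ1 with h | h <;> rw [h] <;> ring
    rw [h10]
    exact Int.ModEq.mul_left δ h6
  · -- the relation
    intro ψ hψ g hg
    have h1 := hrel ψ hψ g hg
    rw [hδ ψ hψ] at h1
    have h2 : (δ : ℂ) * (ψ : G → ℂ) g = -∑ᶠ χ ∈ X, (s χ : ℂ) * (χ : G → ℂ) g := by
      rw [eq_neg_iff_add_eq_zero, add_comm]; exact h1
    rw [h2, ← finsum_mem_neg_distrib _ (Set.toFinite X)]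
    apply finsum_mem_congr rfl
    intro χ _
    push_cast
    ring
  · intro χ hχ φ h1 h2
    rw [hX χ hχ φ h1 h2]
    ring
  · intro ψ hψ
    obtain ⟨φ₀, h1, h2, h3⟩ := hY ψ hψ
    refine ⟨φ₀, h1, h2, ?_⟩
    intro φ hφ hφn
    rw [h3 φ hφ hφn, hδ ψ hψ]


/-! ## The objects of the proof -/

/-- the sum over `P` of a function on `G` -/
noncomputable def pSum (P : Sylow p G) (F : G → ℂ) : ℂ :=
  ∑ᶠ x ∈ ((P : Subgroup G) : Set G), F x

/-- the product `a · conj b` -/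
def mulConj (a b : G → ℂ) : G → ℂ := fun g => a g * conj (b g)

/-- `φ` and `φ'` have the same central character on `P` -/
def SameP (P : Sylow p G) (φ φ' : IrrCharacter (cen P)) : Prop :=
  ∀ x : cen P, (x : G) ∈ (P : Subgroup G) →
    (φ : cen P → ℂ) x * (φ' : cen P → ℂ) 1 = (φ' : cen P → ℂ) x * (φ : cen P → ℂ) 1

/-- the `p - 1` non-canonical (linear) characters of `C_G(P)` over the trivial character -/
def Z1 (P : Sylow p G) : Set (IrrCharacter (cen P)) :=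
  {φ | can P φ = oneIrr P ∧ ¬ IsCanon P φ}

/-- `ψ|_C` is the sum of the `N`-orbit of `φ₀` -/
def IsOrbitSum (P : Sylow p G) (ψ : IrrCharacter G) (φ₀ : IrrCharacter (cen P)) : Prop :=
  ∀ c : cen P, (ψ : G → ℂ) (c : G) = ∑ᶠ φ ∈ MulAction.orbit (nor P) φ₀, (φ : cen P → ℂ) c

/-- the inner product on `C_G(P)` of (the restriction of) `F` with `φ` -/
noncomputable def cInner (P : Sylow p G) (F : G → ℂ) (φ : IrrCharacter (cen P)) : ℂ :=
  haveI : Fintype (cen P) := Fintype.ofFinite _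
  classInner (fun c : cen P => F (c : G)) (φ : cen P → ℂ)

/-- the number (with multiplicity) of constituents from `Z1` of `F|_C` -/
noncomputable def z1Sum (P : Sylow p G) (F : G → ℂ) : ℝ :=
  ∑ᶠ φ ∈ Z1 P, (cInner P F φ).re

end Cfsg.Agent.Helper57.BH
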