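import Cfsg.Agent.Helper57.BH.Counting
import Cfsg.Agent.Helper74.DegP3

/-!
# S4503: a character of degree `< (p-1)/2` of a group generated by its Sylow `p`-subgroups of
order `p` has `P` in its centre
-/

set_option autoImplicit false

namespace Cfsg.Agent.Helper57.BH

open Cfsg Cfsg.Agent.Helper16 Cfsg.Agent.Helper16.DefOne Cfsg.Agent.Helper82.DefOne
  Cfsg.Agent.Helper77.DefOne
open scoped ComplexConjugate

universe u

variable {G : Type u} [Group G] [Fintype G] {p : ℕ} [Fact p.Prime] (P : Sylow p G)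

open Classical in
/-- **Main theorem.** If every linear character of `G` trivial on the elements of order `p` is trivial, then `P` lies
in the centre of every irreducible character of degree `< (p-1)/2`. -/
theorem mem_charCenter_of_small (hP : Nat.card P = p)
    (hgen : ∀ μ : IrrCharacter G, charDegree (μ : G → ℂ) = 1 →
      (∀ g : G, orderOf g = p → (μ : G → ℂ) g = 1) → μ = oneIrrG G)
    (ψ : IrrCharacter G) (hsmall : 2 * charDegree (ψ : G → ℂ) + 1 < p)
    (x : G) (hx : x ∈ (P : Subgroup G)) : x ∈ Helper74.charCenter ψ := by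
  have hp : p.Prime := Fact.out
  by_cases hker : ∃ y : G, y ∈ (P : Subgroup G) ∧ (ψ : G → ℂ) y ≠ (ψ : G → ℂ) 1
  swap
  · have hker' : ∀ y : G, y ∈ (P : Subgroup G) → (ψ : G → ℂ) y = (ψ : G → ℂ) 1 := by
      intro y hy
      by_contra hcon
      exact hker ⟨y, hy, hcon⟩
    rw [Helper74.mem_charCenter_iff, hker' x hx, Helper79.irr_one]
    simp
  haveI := normal_subgroupOf_nor P hP
  obtain ⟨M, hM⟩ := Helper74.exists_isPModular p hp
  have hmod : ModCount p P :=
    Helper24.DefOneMZ2.module_count M hM P hP (nor_eq_normalizer P hP)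
  have hpos := Helper79.irr_charDegree_pos ψ
  have hnd : ¬ p ∣ charDegree (ψ : G → ℂ) := Nat.not_dvd_of_pos_of_lt hpos (by omega)
  obtain ⟨θ, hθ, hψR⟩ := (not_dvd_degree_iff P hP hmod ψ).mp hnd
  obtain ⟨X, Y, ε, δ, D⟩ := exists_isRData P hP hmod θ hθ
  have hψY : ψ ∈ Y := by
    rw [D.union] at hψR
    rcases hψR with h | h
    · exact absurd h (not_mem_X_of_small P hP θ hθ D ψ hsmall hker)
    · exact h
  obtain ⟨φ₀, h1, h2, hrow0⟩ := D.rowY ψ hψY
  have hrow := rowZ_eq_of_mem_Y P hP hmod θ hθ D ψ hψY φ₀ h1 h2 hrow0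
  have hδ := delta_eq_one P hP hmod θ hθ D ψ hψY φ₀ h1 h2 hrow hsmall hker
  obtain ⟨hdeg, hsum⟩ :=
    orbitSum_of_mem_Y P hP hmod θ hθ D ψ hψY φ₀ h1 h2 hrow hδ (by omega)
  have hθpos : 0 < charDegree (θ : cen P → ℂ) :=
    Nat.pos_of_ne_zero (charDegree_ne_zero' θ)
  have hfpos : 0 < (cen P).relIndex (nor P) := relIndex_pos P
  by_cases hf1 : (cen P).relIndex (nor P) = 1
  · -- `N = C`: `ψ|_C = φ₀`
    have hle : nor P ≤ cen P := Subgroup.relIndex_eq_one.mp hf1
    have horb : MulAction.orbit (nor P) φ₀ = {φ₀} := by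
      ext φ
      constructor
      · rintro ⟨n, rfl⟩
        exact smul_eq_of_mem_cen P n φ₀ (hle n.2)
      · intro h
        rw [Set.mem_singleton_iff] at h
        rw [h]
        exact MulAction.mem_orbit_self _
    have hval : ∀ c : cen P, (ψ : G → ℂ) (c : G) = (φ₀ : cen P → ℂ) c := by
      intro c
      rw [hsum c, horb, finsum_mem_singleton]
    have hxc : (⟨x, le_cen P hP hx⟩ : cen P) ∈ Helper74.charCenter φ₀ := by
      apply Helper74.center_le_charCenter φ₀
      apply subgroupOf_cen_le_center P hP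
      rw [Subgroup.mem_subgroupOf]
      exact hx
    rw [Helper74.mem_charCenter_iff] at hxc ⊢
    have e1 := hval ⟨x, le_cen P hP hx⟩
    have e2 := hval 1
    rw [Subgroup.coe_one, Helper79.irr_one, Helper79.irr_one] at e2
    have e3 : charDegree (ψ : G → ℂ) = charDegree (φ₀ : cen P → ℂ) := by exact_mod_cast e2
    show ‖(ψ : G → ℂ) x‖ = _
    rw [show (ψ : G → ℂ) x = (φ₀ : cen P → ℂ) ⟨x, le_cen P hP hx⟩ from e1, hxc, e3]
  · exfalso
    have hf2 : 2 ≤ (cen P).relIndex (nor P) := by omega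
    have hfle : (cen P).relIndex (nor P) ≤ charDegree (ψ : G → ℂ) := by
      rw [hdeg]
      exact Nat.le_mul_of_pos_right _ hθpos
    have hfp : 2 * (cen P).relIndex (nor P) + 1 < p := by omega
    obtain ⟨φ₂, h1', h2', hns⟩ := exists_second P hP θ hθ φ₀ h1 h2 (by omega)
    obtain ⟨ψ₂, hψ₂Y, hne0⟩ := D.exY φ₂ h1' h2'
    obtain ⟨φ₀', g1, g2, grow0⟩ := D.rowY ψ₂ hψ₂Y
    have grow' := rowZ_eq_of_mem_Y P hP hmod θ hθ D ψ₂ hψ₂Y φ₀' g1 g2 grow0
    have hmem : φ₂ ∈ MulAction.orbit (nor P) φ₀' := by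
      by_contra hcon
      apply hne0
      rw [grow' φ₂, if_neg hcon]
    have horb : MulAction.orbit (nor P) φ₀' = MulAction.orbit (nor P) φ₂ :=
      (MulAction.orbit_eq_iff.mpr hmem).symm
    have grow : ∀ φ : IrrCharacter (cen P),
        rowZ P ψ₂ φ = if φ ∈ MulAction.orbit (nor P) φ₂ then δ else 0 := by
      intro φ
      rw [grow' φ, horb]
    have hne : ψ ≠ ψ₂ := by
      intro h
      apply hne0
      rw [← h, hrow φ₂, if_neg]
      intro hmem2
      exact hns φ₂ hmem2 φ₂ (MulAction.mem_orbit_self _) (sameP_refl P φ₂)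
    have hreg : ∀ g : G, ¬ p ∣ orderOf g → (ψ₂ : G → ℂ) g = (ψ : G → ℂ) g := by
      intro g hg
      have e1 := D.rel ψ hψY g hg
      have e2 := D.rel ψ₂ hψ₂Y g hg
      rw [hδ] at e1 e2
      have e3 := e2.trans e1.symm
      simpa using e3
    have hdeg2 : charDegree (ψ₂ : G → ℂ) = charDegree (ψ : G → ℂ) := by
      have h1reg : ¬ p ∣ orderOf (1 : G) := by
        rw [orderOf_one]
        exact hp.not_dvd_one
      have e := hreg 1 h1reg
      rw [Helper79.irr_one, Helper79.irr_one] at e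
      exact_mod_cast e
    obtain ⟨-, hsum'⟩ :=
      orbitSum_of_mem_Y P hP hmod θ hθ D ψ₂ hψ₂Y φ₂ h1' h2' grow hδ (by omega)
    have hfix := pSum_mulConj_eq_zero P hP ψ ψ₂ φ₀ φ₂ hsum hsum' hns
    have hz1 := z1Sum_mulConj_le P hP ψ ψ₂ φ₀ φ₂ hsum hsum' (by
      rw [← charDegree_can P hP φ₀, ← charDegree_can P hP φ₂, h1, h1'])
    exact principal_counting P hP hmod hgen ψ ψ₂ hne hreg hfix hz1 hf2 hfp

end Cfsg.Agent.Helper57.BH
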